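import Groth.Agent.Etbc.H202.Split
import Mathlib.CategoryTheory.Abelian.Exact
import Mathlib.Algebra.Homology.ShortComplex.ExactFunctor
import Mathlib.CategoryTheory.Preadditive.Injective.Basic

/-!
# The abstract form of the splitting lemma

`0 → M → E → E → 0` exact (`E → E` multiplication by `ℓ`), `E → I` mono into an injective, `G` left exact with
`G I` injective and `G I → G (I/E)` epi, `a : Z → G E`, `o : G E → N`.  Then a class in `Ext^n(P, Z/ℓ)` dies in
`Ext^n(P, N/ℓ)` as soon as `Ext^n(P, G Q) = 0`, `Q = I/M`.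
-/

set_option autoImplicit false

universe w v u v' u' v'' u''

open CategoryTheory CategoryTheory.Limits CategoryTheory.Abelian

namespace Groth.Agent.Etbc.H202.Core1

variable {A : Type u} [Category.{v} A] [Abelian A] {B : Type u'} [Category.{v'} B] [Abelian B]

section

variable {M E I : A} {ι : M ⟶ E} {p : E ⟶ E} {w : ι ≫ p = 0} {e : E ⟶ I}

/-- The comparison of `I/E` and `I/M`. -/
theorem exists_quot (hS : (ShortComplex.mk ι p w).ShortExact) (e : E ⟶ I) [Mono e] :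
    ∃ (Q : A) (q : I ⟶ Q) (w' : (ι ≫ e) ≫ q = 0) (ψ : E ⟶ Q) (r : Q ⟶ cokernel e) (hψr : ψ ≫ r = 0),
      (ShortComplex.mk (ι ≫ e) q w').ShortExact ∧ p ≫ ψ = e ≫ q ∧ q ≫ r = cokernel.π e ∧ Mono ψ ∧
        (ShortComplex.mk ψ r hψr).Exact := by
  have hmι : Mono ι := hS.mono_f
  have hep : Epi p := hS.epi_g
  have hex : (ShortComplex.mk ι p w).Exact := hS.exact
  let q : I ⟶ cokernel (ι ≫ e) := cokernel.π (ι ≫ e)
  have hq : (ι ≫ e) ≫ q = 0 := cokernel.condition (ι ≫ e)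
  have hexq : (ShortComplex.mk (ι ≫ e) q hq).Exact := ShortComplex.exact_cokernel _
  let ψ : E ⟶ cokernel (ι ≫ e) := hex.desc (e ≫ q) (by
    change ι ≫ e ≫ q = 0
    rw [← Category.assoc, hq])
  have hψ : p ≫ ψ = e ≫ q := hex.g_desc _ _
  let r : cokernel (ι ≫ e) ⟶ cokernel e := cokernel.desc _ (cokernel.π e) (by
    rw [Category.assoc, cokernel.condition, comp_zero])
  have hr : q ≫ r = cokernel.π e := cokernel.π_desc _ _ _
  have hψr : ψ ≫ r = 0 := by
    rw [← cancel_epi p, comp_zero, ← Category.assoc, hψ, Category.assoc, hr, cokernel.condition]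
  have hmono : Mono ψ := by
    rw [Preadditive.mono_iff_cancel_zero]
    intro P g hg
    obtain ⟨A₁, π₁, _, g₁, hg₁⟩ := surjective_up_to_refinements_of_epi p g
    rw [ShortComplex.exact_iff_exact_up_to_refinements] at hexq
    obtain ⟨A₂, π₂, _, x, hx⟩ := hexq (g₁ ≫ e) (by
      change (g₁ ≫ e) ≫ q = 0
      rw [Category.assoc, ← hψ, ← Category.assoc, ← hg₁, Category.assoc, hg, comp_zero])
    dsimp only at x hx
    have h1 : π₂ ≫ g₁ = x ≫ ι := by
      rw [← cancel_mono e]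
      simpa using hx
    rw [← cancel_epi (π₂ ≫ π₁), comp_zero, Category.assoc, hg₁, ← Category.assoc, h1, Category.assoc,
      w, comp_zero]
  refine ⟨cokernel (ι ≫ e), q, hq, ψ, r, hψr, ?_, hψ, hr, hmono, ?_⟩
  · exact { exact := hexq
            mono_f := inferInstanceAs (Mono (ι ≫ e))
            epi_g := inferInstanceAs (Epi (cokernel.π (ι ≫ e))) }
  · have hex2 : (ShortComplex.mk e (cokernel.π e) (cokernel.condition e)).Exact :=
      ShortComplex.exact_cokernel _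
    rw [ShortComplex.exact_iff_exact_up_to_refinements] at hex2 ⊢
    intro C x hx
    dsimp only at x hx
    obtain ⟨A₁, π₁, _, y, hy⟩ := surjective_up_to_refinements_of_epi q x
    obtain ⟨A₂, π₂, _, x', hx'⟩ := hex2 y (by
      change y ≫ cokernel.π e = 0
      rw [← hr, ← Category.assoc, ← hy, Category.assoc, hx, comp_zero])
    dsimp only at x' hx'
    refine ⟨A₂, π₂ ≫ π₁, inferInstance, x' ≫ p, ?_⟩
    dsimp only
    rw [Category.assoc, hy, ← Category.assoc, hx', Category.assoc, Category.assoc, hψ]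

end

variable [HasExt.{w} B]

/-- The abstract splitting lemma. -/
theorem main (G : A ⥤ B) [G.Additive] [PreservesFiniteLimits G] (ℓ : ℕ) {M E I : A} {ι : M ⟶ E}
    {p : E ⟶ E} {w : ι ≫ p = 0} (hp : p = ℓ • 𝟙 E) (hS : (ShortComplex.mk ι p w).ShortExact)
    (e : E ⟶ I) [Mono e] (hI : Injective (G.obj I))
    (hepi : Epi (G.map (cokernel.π e))) :
    ∃ (Q : A) (q : I ⟶ Q) (w' : (ι ≫ e) ≫ q = 0) (_ : (ShortComplex.mk (ι ≫ e) q w').ShortExact),
      ∀ {N Z Z' : B} (o : G.obj E ⟶ N) (π : Z ⟶ Z') (wz : (ℓ • 𝟙 Z) ≫ π = 0)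
        (_ : (ShortComplex.mk (ℓ • 𝟙 Z) π wz).ShortExact) (a : Z ⟶ G.obj E),
        ∃ c' : Z' ⟶ cokernel (ℓ • 𝟙 N), π ≫ c' = (a ≫ o) ≫ cokernel.π (ℓ • 𝟙 N) ∧
          ∀ {P : B} (n : ℕ) (_ : ∀ y : Ext P (G.obj Q) n, y = 0) (z : Ext P Z' n),
            z.comp (Ext.mk₀ c') (add_zero n) = 0 := by
  obtain ⟨Q, q, w', ψ, r, hψr, hSQ, hψ, hr, hmono, hexr⟩ := exists_quot hS e
  refine ⟨Q, q, w', hSQ, ?_⟩
  intro N Z Z' o π wz hZ a
  have hGp : G.map p = ℓ • 𝟙 (G.obj E) := by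
    rw [hp, Functor.map_nsmul, CategoryTheory.Functor.map_id]
  -- the objects downstairs
  let t : G.obj Q ⟶ cokernel (G.map q) := cokernel.π (G.map q)
  have hqt : G.map q ≫ t = 0 := cokernel.condition _
  have hext : (ShortComplex.mk (G.map q) t hqt).Exact := ShortComplex.exact_cokernel _
  have hGψ : Mono (G.map ψ) := inferInstance
  have hGψr : G.map ψ ≫ G.map r = 0 := by rw [← G.map_comp, hψr, G.map_zero]
  have hGexr : (ShortComplex.mk (G.map ψ) (G.map r) hGψr).Exact :=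
    (hexr.map_of_mono_of_preservesKernel G hmono inferInstance :)
  have heqr : G.map e ≫ G.map q ≫ G.map r = 0 := by
    rw [← G.map_comp, ← G.map_comp, hr, cokernel.condition, G.map_zero]
  have hqr : G.map q ≫ G.map r = G.map (cokernel.π e) := by rw [← G.map_comp, hr]
  have hex2 : (ShortComplex.mk (G.map e) (G.map q ≫ G.map r) heqr).Exact := by
    have h1 : (ShortComplex.mk e (cokernel.π e) (cokernel.condition e)).Exact :=
      ShortComplex.exact_cokernel _
    have h2 := (h1.map_of_mono_of_preservesKernel G inferInstance inferInstance :)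
    have h3 : ∀ (g : G.obj I ⟶ G.obj (cokernel e)) (_ : g = G.map (cokernel.π e))
        (wg : G.map e ≫ g = 0), (ShortComplex.mk (G.map e) g wg).Exact := by
      rintro _ rfl _
      exact h2
    exact h3 _ hqr _
  have hepi' : Epi (G.map q ≫ G.map r) := by rw [hqr]; exact hepi
  have hcomm : G.map p ≫ G.map ψ = G.map e ≫ G.map q := by rw [← G.map_comp, hψ, G.map_comp]
  obtain ⟨w1, hex1⟩ := Split.exact_cok (p := G.map p) (e := G.map e) (q := G.map q) (ψ := G.map ψ)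
    (r := G.map r) (t := t) hcomm hGψr heqr hex2 hqt hext
  have hepi1 : Epi (G.map ψ ≫ t) := Split.epi_cok (q := G.map q) hGψr hGexr hqt
  -- `τ`
  have hπ : Epi π := hZ.epi_g
  have hexZ : (ShortComplex.mk (ℓ • 𝟙 Z) π wz).Exact := hZ.exact
  have hτ0 : (ℓ • 𝟙 Z) ≫ a ≫ G.map ψ ≫ t = 0 := by
    have : (ℓ • 𝟙 Z) ≫ a = a ≫ G.map p := by
      rw [hGp, Preadditive.nsmul_comp, Preadditive.comp_nsmul, Category.id_comp, Category.comp_id]
    rw [← Category.assoc, this, Category.assoc, w1, comp_zero]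
  let τ : Z' ⟶ cokernel (G.map q) := hexZ.desc (a ≫ G.map ψ ≫ t) hτ0
  have hτ : π ≫ τ = a ≫ G.map ψ ≫ t := hexZ.g_desc _ _
  -- `ω`
  have hω0 : G.map p ≫ o ≫ cokernel.π (ℓ • 𝟙 N) = 0 := by
    have : G.map p ≫ o = o ≫ (ℓ • 𝟙 N) := by
      rw [hGp, Preadditive.nsmul_comp, Preadditive.comp_nsmul, Category.id_comp, Category.comp_id]
    rw [← Category.assoc, this, Category.assoc, cokernel.condition, comp_zero]
  let ω : cokernel (G.map q) ⟶ cokernel (ℓ • 𝟙 N) := hex1.desc (o ≫ cokernel.π (ℓ • 𝟙 N)) hω0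
  have hω : (G.map ψ ≫ t) ≫ ω = o ≫ cokernel.π (ℓ • 𝟙 N) := hex1.g_desc _ _
  refine ⟨τ ≫ ω, ?_, ?_⟩
  · rw [← Category.assoc, hτ, Category.assoc, hω, Category.assoc]
  · intro P n hQ z
    have h1 := Split.comp_eq_zero hZ (G.map q) t hqt (a ≫ G.map e) (a ≫ G.map ψ) (by
      change (a ≫ G.map e) ≫ G.map q = (ℓ • 𝟙 Z) ≫ a ≫ G.map ψ
      rw [Category.assoc, ← hcomm, hGp, Preadditive.nsmul_comp, Preadditive.nsmul_comp,
        Preadditive.comp_nsmul, Category.id_comp, Category.id_comp]) τ (by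
      change π ≫ τ = (a ≫ G.map ψ) ≫ t
      rw [hτ, Category.assoc]) n hQ z
    rw [← Ext.mk₀_comp_mk₀, ← Ext.comp_assoc_of_third_deg_zero, h1, Ext.zero_comp]

omit [HasExt.{w} B] in
/-- If `F c` is an isomorphism, so is `F c'` for the induced map on cokernels of multiplication by `ℓ`. -/
theorem isIso_map_cokernel {C : Type u''} [Category.{v''} C] [Abelian C] (F : B ⥤ C)
    [PreservesFiniteColimits F] [F.Additive] (ℓ : ℕ) {N Z Z' : B} (π : Z ⟶ Z') (wz : (ℓ • 𝟙 Z) ≫ π = 0)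
    (hZ : (ShortComplex.mk (ℓ • 𝟙 Z) π wz).ShortExact) (c : Z ⟶ N) (hc : IsIso (F.map c))
    (c' : Z' ⟶ cokernel (ℓ • 𝟙 N)) (hc' : π ≫ c' = c ≫ cokernel.π (ℓ • 𝟙 N)) :
    IsIso (F.map c') := by
  have hπ : Epi π := hZ.epi_g
  have h1 : (ShortComplex.mk (ℓ • 𝟙 N) (cokernel.π (ℓ • 𝟙 N)) (cokernel.condition _)).Exact :=
    ShortComplex.exact_cokernel _
  have hex : (ShortComplex.mk (ℓ • 𝟙 Z) π wz).Exact := hZ.exact
  have h2 := hex.map_of_epi_of_preservesCokernel F hπ inferInstance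
  have h3 := h1.map_of_epi_of_preservesCokernel F
    (inferInstanceAs (Epi (cokernel.π (ℓ • 𝟙 N)))) inferInstance
  have hFπ : Epi (F.map π) := inferInstance
  have hFπ' : Epi (F.map (cokernel.π (ℓ • 𝟙 N))) := inferInstance
  have hFπ'' : Epi ((ShortComplex.mk (ℓ • 𝟙 N) (cokernel.π (ℓ • 𝟙 N)) (cokernel.condition _)).map F).g :=
    hFπ'
  have := hc
  have hcomm : F.map π ≫ F.map c' = F.map c ≫ F.map (cokernel.π (ℓ • 𝟙 N)) := by
    rw [← F.map_comp, hc', F.map_comp]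
  -- the inverse
  have hz : F.map (ℓ • 𝟙 N) ≫ inv (F.map c) ≫ F.map π = 0 := by
    have : F.map (ℓ • 𝟙 N) ≫ inv (F.map c) = inv (F.map c) ≫ F.map (ℓ • 𝟙 Z) := by
      rw [Functor.map_nsmul, Functor.map_nsmul, CategoryTheory.Functor.map_id,
        CategoryTheory.Functor.map_id, Preadditive.nsmul_comp, Preadditive.comp_nsmul,
        Category.id_comp, Category.comp_id]
    rw [← Category.assoc, this, Category.assoc, ← F.map_comp, wz, F.map_zero, comp_zero]
  let k : F.obj N ⟶ F.obj Z' := inv (F.map c) ≫ F.map π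
  have hk : k = inv (F.map c) ≫ F.map π := rfl
  rw [← hk] at hz
  obtain ⟨d, hd⟩ : ∃ d : F.obj (cokernel (ℓ • 𝟙 N)) ⟶ F.obj Z',
      F.map (cokernel.π (ℓ • 𝟙 N)) ≫ d = k := ⟨h3.desc k hz, h3.g_desc k hz⟩
  rw [hk] at hd
  refine ⟨d, ?_, ?_⟩
  · rw [← cancel_epi (F.map π), ← Category.assoc, hcomm, Category.assoc, hd,
      IsIso.hom_inv_id_assoc, Category.comp_id]
  · rw [← cancel_epi (F.map (cokernel.π (ℓ • 𝟙 N))), ← Category.assoc, hd, Category.assoc, hcomm,
      IsIso.inv_hom_id_assoc, Category.comp_id]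

end Groth.Agent.Etbc.H202.Core1
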