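import Groth.Agent.Etbc.H202.Core1
import Groth.Agent.CurvesA.AcycEtale
import Groth.Agent.CurvesA.EtFieldAll
import Groth.Agent.CurvesA.OrdMap
import Groth.Agent.Sga4h.TameFieldK2
import Groth.Agent.EtpbcA.CdEtLeray
import Groth.Agent.EtpbcA.CdShift
import Groth.Agent.Etcore.FEtH1
import Groth.Agent.S3073

/-!
# The splitting lemma for the fraction field of a henselian discrete valuation ring
-/

set_option autoImplicit false

universe u

open CategoryTheory CategoryTheory.Limits CategoryTheory.Abelian AlgebraicGeometry Opposite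

namespace Groth.Agent.Etbc.H202.Core2

open Groth.Agent.CurvesA Groth.Agent.CurvesA.SiteZU Groth.Agent.CurvesA.PushAcyclic
  Groth.Agent.EtpbcA.CdEtLeray

section fieldGm

variable (K : Type u) [Field K]

/-- Hilbert 90 on the whole étale site of a field. -/
theorem ext_one_Gm (V : (Spec (CommRingCat.of K)).Etale)
    (x : Ext ((Z (Spec (CommRingCat.of K))).obj V) (EtCoh.Gm (Spec (CommRingCat.of K))) 1) :
    x = 0 := by
  refine EtFieldAll.ext_eq_zero_all (EtCoh.Gm (Spec (CommRingCat.of K))) 1 ?_ V x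
  intro L _ _ _ _ x
  have hJ : EtShriek.JCont (EtFieldObj.etObj K L).hom := Groth.Agent.Sga4h.EtaleRes.jCont _
  have h1 := Groth.Agent.Sga4h.TameFieldK2.subsingleton_H1_Gm L
  have h2 : Subsingleton (EtCoh.H (EtFieldObj.etObj K L).left
      ((EtShriek.restrAlong (EtFieldObj.etObj K L).hom).obj
        (EtCoh.Gm (Spec (CommRingCat.of K)))) 1) :=
    H_subsingleton_of_iso (Groth.Agent.Sga4h.EtaleRes2.GmRestr (EtFieldObj.etObj K L).hom).symm 1 h1
  have h3 : Subsingleton (Ext ((Z _).obj (EtFieldObj.etObj K L))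
      (EtCoh.Gm (Spec (CommRingCat.of K))) 1) :=
    (AcycEtale.extEquivH (EtFieldObj.etObj K L) (EtCoh.Gm (Spec (CommRingCat.of K))) 1).toEquiv.subsingleton
  exact Subsingleton.elim _ _

end fieldGm

section push

variable {X Y : Scheme.{u}}

/-- If `Ext^1(ℤ_V, X₁) = 0` for all `V`, the direct image of the short exact sequence is exact. -/
theorem epi_push {S : ShortComplex (EtCoh.Ab X)} (hS : S.ShortExact)
    (h : ∀ (V : X.Etale) (x : Ext ((Z X).obj V) S.X₁ 1), x = 0) (f : X ⟶ Y) [EtCoh.BCCont f] :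
    Epi ((EtCoh.push f).map S.g) := by
  refine epi_of_sections_surjective _ fun U => ?_
  change Function.Surjective (S.g.hom.app (op ((EtCoh.bc f).obj U)))
  intro s
  obtain ⟨y, hy⟩ := Ext.covariant_sequence_exact₃ ((Z X).obj ((EtCoh.bc f).obj U)) hS
    (Ext.mk₀ (lift.{u + 1} s)) (zero_add 1) (h _ _)
  obtain ⟨φ, rfl⟩ := (Ext.mk₀_bijective _ _).2 y
  rw [Ext.mk₀_comp_mk₀] at hy
  have h := (Ext.mk₀_bijective _ _).1 hy
  refine ⟨ev φ, ?_⟩
  have h2 := congrArg ev h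
  rw [ev_comp, ev_lift] at h2
  exact h2

end push

theorem Hpull_map {X Y : Scheme.{u}} (f : X ⟶ Y) {G G' : EtCoh.Ab Y} (t : G ⟶ G') (n : ℕ)
    (e : Ext (ZZ Y) G n) :
    EtCore.Hpull f G' n (e.comp (Ext.mk₀ t) (add_zero n)) =
      (EtCore.Hpull f G n e : Ext (ZZ X) _ n).comp (Ext.mk₀ ((EtCoh.pull f).map t)) (add_zero n) := by
  change (Ext.mk₀ (EtCore.pullConst f ℤ).inv).comp
      (Ext.mapExactFunctor (EtCoh.pull f) (e.comp (Ext.mk₀ t) (add_zero n))) (zero_add n) =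
    ((Ext.mk₀ (EtCore.pullConst f ℤ).inv).comp
      (Ext.mapExactFunctor (EtCoh.pull f) e) (zero_add n)).comp
        (Ext.mk₀ ((EtCoh.pull f).map t)) (add_zero n)
  rw [Ext.mapExactFunctor_comp, Ext.mapExactFunctor_mk₀, Ext.comp_assoc_of_third_deg_zero]

theorem eq_zero_of_comp_iso {C : Type*} [Category C] [Abelian C] [HasExt C] {P A B : C} (f : A ⟶ B)
    [IsIso f] {n : ℕ} (x : Ext P A n) (h : x.comp (Ext.mk₀ f) (add_zero n) = 0) : x = 0 := by
  have h1 : (x.comp (Ext.mk₀ f) (add_zero n)).comp (Ext.mk₀ (inv f)) (add_zero n) = x := by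
    rw [Ext.comp_assoc_of_third_deg_zero, Ext.mk₀_comp_mk₀, IsIso.hom_inv_id, Ext.comp_mk₀_id]
  rw [← h1, h, Ext.zero_comp]

/-- The general form: `j : X → Y`, `i : Z₀ → Y` with `Hpull i` injective. -/
theorem subsingleton_general {X Y Z₀ : Scheme.{u}} (j : X ⟶ Y) [EtCoh.BCCont j] (i : Z₀ ⟶ Y)
    (ℓ : ℕ) (hℓ0 : 0 < ℓ) (hℓ : IsUnit (ℓ : Γ(X, ⊤)))
    (hGm : ∀ (V : X.Etale) (x : Ext ((Z X).obj V) (EtCoh.Gm X) 1), x = 0)
    {N : EtCoh.Ab Y} (o : (EtCoh.push j).obj (EtCoh.Gm X) ⟶ N)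
    (a : EtCoh.const Y ℤ ⟶ (EtCoh.push j).obj (EtCoh.Gm X))
    (hc : IsIso ((EtCoh.pull i).map (a ≫ o)))
    (hR : ∀ q, 2 ≤ q → IsZero ((EtCoh.Rpush j q).obj (EtCoh.mu X ℓ)))
    (m : ℕ) (hm : Subsingleton (EtCoh.H X (EtCoh.mu X ℓ) (m + 2)))
    (hi : Function.Injective (EtCore.Hpull i (EtCoh.const Y (ZMod ℓ)) (m + 1))) :
    Subsingleton (EtCoh.H Y (EtCoh.const Y (ZMod ℓ)) (m + 1)) := by
  have hKum := Groth.Agent.Dix.KummerLES.shortExact hℓ
  let e : EtCoh.Gm X ⟶ Injective.under (EtCoh.Gm X) := Injective.ι _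
  have he : Mono e := inferInstanceAs (Mono (Injective.ι (EtCoh.Gm X)))
  have hI0 : Injective (Injective.under (EtCoh.Gm X)) := inferInstance
  have hI : Injective ((EtCoh.push j).obj (Injective.under (EtCoh.Gm X))) :=
    injective_push j _ hI0
  have hepi : Epi ((EtCoh.push j).map (cokernel.π e)) := by
    have hS : (ShortComplex.mk e (cokernel.π e) (cokernel.condition e)).ShortExact :=
      { exact := ShortComplex.exact_cokernel _
        mono_f := he
        epi_g := inferInstanceAs (Epi (cokernel.π e)) }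
    exact epi_push hS hGm j
  obtain ⟨Q, q, w', hSQ, H⟩ := Core1.main (EtCoh.push j) ℓ (p := EtCoh.powMap X ℓ) rfl hKum e hI hepi
  obtain ⟨wz, hZ⟩ := Groth.Agent.Etcore.FEtH1.const_shortExact Y ℓ hℓ0
  obtain ⟨c', hc', H'⟩ := H o (Groth.Agent.Etcore.FEtH1.zq Y ℓ) wz hZ a
  -- vanishing for `Q`
  have hHQ : Subsingleton (EtCoh.H X Q (m + 1)) := by
    refine subsingleton_of_forall_eq 0 fun (x : Ext (ZZ X) Q (m + 1)) => ?_
    obtain ⟨y, hy⟩ := Ext.covariant_sequence_exact₃ (ZZ X) hSQ x (n₁ := m + 2) rfl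
      (@Subsingleton.elim _ hm _ _)
    rw [← hy, Ext.eq_zero_of_injective y, Ext.zero_comp]
  have hRQ : ∀ q : ℕ, IsZero ((EtCoh.Rpush j (q + 1)).obj Q) := by
    intro q
    obtain ⟨e1⟩ := Groth.Agent.EtpbcA.CdShift.nonempty_shiftIso (EtCoh.push j) hSQ hI0 q
    exact (hR (q + 2) (by omega)).of_iso e1
  have hHGQ : Subsingleton (EtCoh.H Y ((EtCoh.push j).obj Q) (m + 1)) :=
    H_push_subsingleton_of_reverse j Q m hHQ fun p q _ => H_subsingleton_of_isZero (hRQ q) p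
  -- the conclusion
  have hiso : IsIso ((EtCoh.pull i).map c') :=
    Core1.isIso_map_cokernel (EtCoh.pull i) ℓ _ wz hZ (a ≫ o) hc c' hc'
  refine subsingleton_of_forall_eq 0 fun (z : Ext (ZZ Y) (EtCoh.const Y (ZMod ℓ)) (m + 1)) => ?_
  apply hi
  have h1 : z.comp (Ext.mk₀ c') (add_zero (m + 1)) = 0 :=
    H' (m + 1) (fun y => @Subsingleton.elim _ hHGQ _ _) z
  have h2 := Hpull_map i c' (m + 1) z
  rw [h1, map_zero] at h2
  rw [map_zero]
  exact eq_zero_of_comp_iso ((EtCoh.pull i).map c') _ h2.symm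

end Groth.Agent.Etbc.H202.Core2
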