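import Groth.Prelude.Def_Dix
import Groth.Agent.CurvesA.EtFieldTors
import Groth.Agent.CurvesA.FieldHZl47
import Groth.Agent.EtpbcA.CdRel
import Groth.Agent.EtpbcA.RpushTors

/-!
# `ℓ`-cohomological dimension of fields: reduction to `ℤ/ℓ` and `μ_ℓ`

`q` is fixed throughout the first results.
* `subsingleton_H_of_isPrimaryTorsion`: if `H^q(Spec E, ℤ/ℓ) = 0` for all finite separable `E/K`, then
  `H^q(Spec K, F) = 0` for all `ℓ`-primary torsion `F`.
* `subsingleton_const_of_mu`: the same hypothesis follows from `H^q(Spec E, μ_ℓ) = 0` for all `E`.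
* `cohDimLEAt_of_isAlgebraic`: `cd_ℓ(L) ≤ cd_ℓ(K)` for `L/K` algebraic.
* `cohDimLEAt_iff`: `cd_ℓ(K) ≤ d` iff `H^q(Spec E, ℤ/ℓ) = 0` for all finite separable `E/K`, `q > d`.
-/

set_option autoImplicit false

universe u

open CategoryTheory Category Limits Opposite AlgebraicGeometry Abelian
open Groth.Agent.CurvesA.EtFieldObj Groth.Agent.CurvesA.EtFieldDesc Groth.Agent.CurvesA.EtFieldTr
open Groth.Agent.CurvesA.EtFieldFin Groth.Agent.CurvesA.ExtMid Groth.Agent.CurvesA.EtFieldFilt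
open Groth.Agent.CurvesA.EtFieldTors Groth.Agent.CurvesA

namespace Groth.Agent.Etbc.H202.FieldDev

/-! ### generalities on `ℓ`-primary torsion sheaves -/

section general

variable {X Y : Scheme.{u}} {ℓ : ℕ}

theorem isTorsion_of_isPrimaryTorsion (hℓ : 0 < ℓ) {F : EtCoh.Ab X} (hF : Dix.IsPrimaryTorsion ℓ F) :
    EtCoh.IsTorsion F := by
  intro U s x
  obtain ⟨V, g, hv, k, hk⟩ := hF U s x
  refine ⟨V, g, hv, ?_⟩
  rw [isOfFinAddOrder_iff_nsmul_eq_zero]
  exact ⟨ℓ ^ k, pow_pos hℓ k, hk⟩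

theorem isPrimaryTorsion_of_killedBy (k : ℕ) {F : EtCoh.Ab X} (hF : EtCoh.KilledBy (ℓ ^ k) F) :
    Dix.IsPrimaryTorsion ℓ F :=
  fun U s x => ⟨U, 𝟙 U, ⟨x, rfl⟩, k, hF U _⟩

theorem isPrimaryTorsion_of_mono {F G : EtCoh.Ab X} (i : F ⟶ G) [Mono i]
    (h : Dix.IsPrimaryTorsion ℓ G) : Dix.IsPrimaryTorsion ℓ F := by
  intro U s x
  obtain ⟨V, g, hv, k, hk⟩ := h U (i.hom.app (op U) s) x
  refine ⟨V, g, hv, k, ?_⟩
  apply EtpbcA.RpushTors.injective_of_mono i V
  rw [map_nsmul, map_zero]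
  have := NatTrans.naturality_apply i.hom g.op s
  exact (congrArg (fun t => (ℓ ^ k) • t) this).trans hk

/-- Sections of an `ℓ`-primary torsion sheaf over a quasi-compact étale scheme are killed by a power of `ℓ`. -/
theorem exists_nsmul_eq_zero_of_compact (F : EtCoh.Ab X) (hF : Dix.IsPrimaryTorsion ℓ F) (U : X.Etale)
    [CompactSpace U.left] (s : EtCoh.sect F U) : ∃ k : ℕ, (ℓ ^ k) • s = 0 := by
  let W : ℕ → Set U.left := fun m => {x | Etbase.EtSections.VanishesAt F U ((ℓ ^ m) • s) x}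
  have hW : ∀ m, IsOpen (W m) := fun m => Etbase.EtSections.isOpen_vanishesAt F U _
  have hcov : (⋃ m, W m) = Set.univ := by
    rw [Set.eq_univ_iff_forall]
    intro x
    obtain ⟨V, g, ⟨v, hv⟩, k, hg⟩ := hF U s x
    refine Set.mem_iUnion.2 ⟨k, V, g, v, hv, ?_⟩
    rw [map_nsmul]
    exact hg
  obtain ⟨T, hT⟩ := isCompact_univ.elim_finite_subcover W hW (by rw [hcov])
  refine ⟨T.sup id, ?_⟩
  apply Etbase.EtSections.eq_zero_of_vanishesAt F U
  intro x
  obtain ⟨m, hm⟩ := Set.mem_iUnion.1 (hT (Set.mem_univ x))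
  obtain ⟨hmT, V, g, v, hv, h0⟩ := Set.mem_iUnion.1 hm
  refine ⟨V, g, v, hv, ?_⟩
  obtain ⟨c, hc⟩ : ∃ c, T.sup id = m + c := Nat.exists_eq_add_of_le (Finset.le_sup (f := id) hmT)
  rw [hc, pow_add, mul_comm, mul_smul, map_nsmul, h0, smul_zero]

/-- `f_* F` is `ℓ`-primary torsion for `F` `ℓ`-primary torsion and `f` quasi-compact. -/
theorem isPrimaryTorsion_push (f : X ⟶ Y) [QuasiCompact f] (F : EtCoh.Ab X)
    (hF : Dix.IsPrimaryTorsion ℓ F) : Dix.IsPrimaryTorsion ℓ ((EtCoh.push f).obj F) := by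
  intro U s x
  obtain ⟨V, g, hV, -, v, hv⟩ := Groth.Agent.Etrest.Site0.exists_affine U x
  refine ⟨V, g, ⟨v, hv⟩, ?_⟩
  have := EtpbcA.RpushTors.compactSpace_bc f V hV
  exact exists_nsmul_eq_zero_of_compact F hF ((EtCoh.bc f).obj V) _

end general

/-! ### fields -/

variable {K : Type u} [Field K]

theorem exists_pow_nsmul {ℓ : ℕ} {F : EtCoh.Ab (Spec (CommRingCat.of K))}
    (hF : Dix.IsPrimaryTorsion ℓ F) (E : Type u) [Field E] [Algebra K E]
    [FiniteDimensional K E] [Algebra.IsSeparable K E] (a : F.obj.obj (op (etObj K E))) :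
    ∃ k : ℕ, (ℓ ^ k) • a = 0 := by
  let x : (etObj K E).left := (⟨⊥, Ideal.isPrime_bot⟩ : PrimeSpectrum E)
  obtain ⟨V, g, ⟨v, -⟩, k, h⟩ := hF (etObj K E) a x
  have : Nonempty V.left := ⟨v⟩
  refine ⟨k, map_injective F g ?_⟩
  rw [map_nsmul, h, map_zero]

/-- A finite split `ℓ`-primary torsion sheaf is killed by a power of `ℓ`. -/
theorem exists_killedBy_pow {ℓ : ℕ} (hℓ : 0 < ℓ) {F : EtCoh.Ab (Spec (CommRingCat.of K))} (h : Fin' F)
    (hF : Dix.IsPrimaryTorsion ℓ F) : ∃ k : ℕ, EtCoh.KilledBy (ℓ ^ k) F := by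
  obtain ⟨N, _, _, _, _, h1, h2⟩ := h
  have : AddGroup.FG (F.obj.obj (op (etObj K N))) := by
    rw [← Module.Finite.iff_addGroup_fg]
    exact h2
  have hfin : Finite (F.obj.obj (op (etObj K N))) :=
    AddCommGroup.finite_of_fg_isAddTorsion _ fun a =>
      isOfFinAddOrder_of_isTorsion (isTorsion_of_isPrimaryTorsion hℓ hF) N a
  choose k hk using fun a => exists_pow_nsmul hF N a
  obtain ⟨m, hm⟩ := (Set.finite_range k).bddAbove
  refine ⟨m, ?_⟩
  intro U s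
  refine sect_ext fun N' _ _ _ _ b => ?_
  obtain ⟨M, _, _, _, _, ⟨φ⟩, ⟨ψ⟩⟩ := exists_galois (K := K) N' N
  refine map_injective F (etMap φ) ?_
  obtain ⟨a, ha⟩ := h1 M (etMap ψ) (F.obj.map (etMap φ).op (F.obj.map b.op s))
  obtain ⟨c, hc⟩ : ∃ c, m = k a + c := Nat.exists_eq_add_of_le (hm ⟨a, rfl⟩)
  rw [map_nsmul, map_nsmul, ← ha, map_zero, map_zero, ← map_nsmul, hc, pow_add, mul_comm, mul_smul, hk,
    smul_zero, map_zero]

/-- `ℓ`-primary torsion sheaves, one degree at a time. -/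
theorem van_of_isPrimaryTorsion (ℓ : ℕ) [hℓ : Fact ℓ.Prime] (q : ℕ)
    (hZ : ∀ (E : Type u) [Field E] [Algebra K E] [FiniteDimensional K E] [Algebra.IsSeparable K E],
      Subsingleton (EtCoh.H (Spec (CommRingCat.of E)) (EtCoh.const _ (ZMod ℓ)) q))
    (F : EtCoh.Ab (Spec (CommRingCat.of K))) (hF : Dix.IsPrimaryTorsion ℓ F)
    (L : Type u) [Field L] [Algebra K L] [FiniteDimensional K L] [Algebra.IsSeparable K L] :
    Van (ZL K L) q F := by
  intro x
  obtain ⟨F', i, x', hF', hi, rfl⟩ := exists_fin_sub (fin_ZL L) x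
  obtain ⟨k, hK⟩ := exists_killedBy_pow hℓ.out.pos hF' (isPrimaryTorsion_of_mono i hF)
  rw [van_of_killedBy (ℓ ^ k) (pow_ne_zero k hℓ.out.ne_zero) q (fun ℓ' hℓ' hd E _ _ _ _ => by
    obtain rfl : ℓ' = ℓ := (Nat.prime_dvd_prime_iff_eq hℓ'.out hℓ.out).1 (hℓ'.out.dvd_of_dvd_pow hd)
    exact hZ E) F' hK L x', Ext.zero_comp]

/-- **`H^q(Spec K, F) = 0` for `ℓ`-primary torsion `F`, from `ℤ/ℓ` over finite separable extensions.** -/
theorem subsingleton_H_of_isPrimaryTorsion (ℓ : ℕ) [hℓ : Fact ℓ.Prime] (q : ℕ)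
    (hZ : ∀ (E : Type u) [Field E] [Algebra K E] [FiniteDimensional K E] [Algebra.IsSeparable K E],
      Subsingleton (EtCoh.H (Spec (CommRingCat.of E)) (EtCoh.const _ (ZMod ℓ)) q))
    (F : EtCoh.Ab (Spec (CommRingCat.of K))) (hF : Dix.IsPrimaryTorsion ℓ F) :
    Subsingleton (EtCoh.H (Spec (CommRingCat.of K)) F q) :=
  EtFieldH.subsingleton_H F q (van_of_isPrimaryTorsion ℓ q hZ F hF K)

/-- Transfer from a cyclotomic extension: `ℤ/ℓ` from `μ_ℓ`. -/
theorem subsingleton_const_of_mu (K : Type u) [Field K] (ℓ : ℕ) [hℓ : Fact ℓ.Prime] (h0 : (ℓ : K) ≠ 0)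
    (q : ℕ) (hmu : ∀ (E : Type u) [Field E] [Algebra K E] [FiniteDimensional K E] [Algebra.IsSeparable K E],
      Subsingleton (EtCoh.H (Spec (CommRingCat.of E)) (EtCoh.mu (Spec (CommRingCat.of E)) ℓ) q)) :
    Subsingleton (EtCoh.H (Spec (CommRingCat.of K)) (EtCoh.const _ (ZMod ℓ)) q) := by
  have : NeZero (ℓ : K) := ⟨h0⟩
  let L := CyclotomicField ℓ K
  have : FiniteDimensional K L := IsCyclotomicExtension.finiteDimensional {ℓ} K L
  have : IsGalois K L := IsCyclotomicExtension.isGalois {ℓ} K L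
  have hn' : (ℓ : L) ≠ 0 := by
    rw [← map_natCast (algebraMap K L)]
    exact (map_ne_zero _).2 h0
  have hL : ∀ x : Abelian.Ext (ZL K L) (EtCoh.const _ (ZMod ℓ)) q, x = 0 := by
    intro x
    obtain ⟨e⟩ := MuConst.nonempty_iso_const_mu (X := Spec (CommRingCat.of L)) L ℓ hn'
      (IsCyclotomicExtension.zeta ℓ K L) (IsCyclotomicExtension.zeta_spec ℓ K L) (𝟙 _)
    have h1 : Subsingleton (EtCoh.H (Spec (CommRingCat.of L)) (EtCoh.const _ (ZMod ℓ)) q) :=
      CohBasic.van_of_iso e.symm q (hmu L)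
    have h2 : Subsingleton (EtCoh.H (etObj K L).left
        ((EtShriek.restrAlong (etObj K L).hom).obj (EtCoh.const _ (ZMod ℓ))) q) :=
      CohBasic.van_of_iso (Sga4h.EtaleRes2.constRestr (etObj K L).hom (ZMod ℓ)).symm q h1
    have h3 : Subsingleton (Abelian.Ext (ZL K L) (EtCoh.const _ (ZMod ℓ)) q) :=
      @Equiv.subsingleton _ _ (AcycEtale.extEquivH (etObj K L)
        (EtCoh.const (Spec (CommRingCat.of K)) (ZMod ℓ)) q).toEquiv h2
    exact Subsingleton.elim _ _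
  apply EtFieldH.subsingleton_H
  intro x
  obtain ⟨t, ht⟩ := exists_transfer (K := K) (L := K) (L' := L) (M := L)
  have h1 := ExtStep.nsmul_eq_zero_of_transfer _ t _ ht _ q x (hL _)
  have h2 : ℓ • x = 0 := FieldHZl47.nsmul_ext_eq_zero (Sga4h.TensorConst.killedBy_const ℓ) x
  have h3 := FieldHZl47.coprime_finrank ℓ K L
  have h4 : addOrderOf x ∣ 1 := by
    rw [← h3.gcd_eq_one]
    exact Nat.dvd_gcd (addOrderOf_dvd_of_nsmul_eq_zero h1) (addOrderOf_dvd_of_nsmul_eq_zero h2)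
  exact AddMonoid.addOrderOf_eq_one_iff.1 (Nat.dvd_one.1 h4)

/-- **`H^q(Spec K, F) = 0` for `ℓ`-primary torsion `F`, from `μ_ℓ` over finite separable extensions.** -/
theorem subsingleton_H_of_mu (K : Type u) [Field K] (ℓ : ℕ) [hℓ : Fact ℓ.Prime] (h0 : (ℓ : K) ≠ 0)
    (q : ℕ) (hmu : ∀ (E : Type u) [Field E] [Algebra K E] [FiniteDimensional K E] [Algebra.IsSeparable K E],
      Subsingleton (EtCoh.H (Spec (CommRingCat.of E)) (EtCoh.mu (Spec (CommRingCat.of E)) ℓ) q))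
    (F : EtCoh.Ab (Spec (CommRingCat.of K))) (hF : Dix.IsPrimaryTorsion ℓ F) :
    Subsingleton (EtCoh.H (Spec (CommRingCat.of K)) F q) := by
  refine subsingleton_H_of_isPrimaryTorsion ℓ q (fun E _ _ _ _ => ?_) F hF
  refine subsingleton_const_of_mu E ℓ ?_ q fun E' _ _ _ _ => ?_
  · rw [← map_natCast (algebraMap K E)]
    exact (map_ne_zero _).2 h0
  · let _ : Algebra K E' := ((algebraMap E E').comp (algebraMap K E)).toAlgebra
    have : IsScalarTower K E E' := IsScalarTower.of_algebraMap_eq fun _ => rfl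
    have : FiniteDimensional K E' := FiniteDimensional.trans K E E'
    have : Algebra.IsSeparable K E' := Algebra.IsSeparable.trans K E E'
    exact hmu E'

/-! ### passing to algebraic extensions -/

/-- `cd_ℓ(L) ≤ cd_ℓ(K)` for `L/K` algebraic. -/
theorem cohDimLEAt_of_isAlgebraic (K L : Type u) [Field K] [Field L] [Algebra K L]
    [Algebra.IsAlgebraic K L] (ℓ d : ℕ) (hℓ : 0 < ℓ)
    (h : Dix.CohDimLEAt (Spec (CommRingCat.of K)) ℓ d) :
    Dix.CohDimLEAt (Spec (CommRingCat.of L)) ℓ d := by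
  intro F hF q hq
  let f : Spec (CommRingCat.of L) ⟶ Spec (CommRingCat.of K) :=
    Spec.map (CommRingCat.ofHom (algebraMap K L))
  have h0 := EtpbcA.CdRel.relCohDimLE_zero K L F (isTorsion_of_isPrimaryTorsion hℓ hF)
  exact (EtpbcA.CdExact.H_push_iff_of_isZero f F (fun q => h0 (q + 1) q.succ_pos) q).1
    (h _ (isPrimaryTorsion_push f F hF) q hq)

/-- `cd_ℓ(K) ≤ d` iff `H^q(Spec E, ℤ/ℓ) = 0` for all finite separable `E/K` and `q > d`. -/
theorem cohDimLEAt_iff (K : Type u) [Field K] (ℓ d : ℕ) [hℓ : Fact ℓ.Prime] :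
    Dix.CohDimLEAt (Spec (CommRingCat.of K)) ℓ d ↔ ∀ (q : ℕ), d < q →
      ∀ (E : Type u) [Field E] [Algebra K E] [FiniteDimensional K E] [Algebra.IsSeparable K E],
        Subsingleton (EtCoh.H (Spec (CommRingCat.of E)) (EtCoh.const _ (ZMod ℓ)) q) := by
  constructor
  · intro h q hq E _ _ _ _
    refine cohDimLEAt_of_isAlgebraic K E ℓ d hℓ.out.pos h _ ?_ q hq
    apply isPrimaryTorsion_of_killedBy 1
    rw [pow_one]
    exact Sga4h.TensorConst.killedBy_const ℓ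
  · intro h F hF q hq
    exact subsingleton_H_of_isPrimaryTorsion ℓ q (h q hq) F hF

theorem killedBy_mu (X : Scheme.{u}) (n : ℕ) : EtCoh.KilledBy n (EtCoh.mu X n) := by
  rw [EtKilled.killedBy_iff]
  have : Mono (EtCoh.muι X n) := inferInstanceAs (Mono (kernel.ι (EtCoh.powMap X n)))
  rw [← cancel_mono (EtCoh.muι X n)]
  have h : EtCoh.muι X n ≫ (n • 𝟙 (EtCoh.Gm X)) = 0 := kernel.condition (EtCoh.powMap X n)
  rw [Preadditive.comp_nsmul, Category.comp_id] at h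
  rw [Preadditive.nsmul_comp, Category.id_comp, h, zero_comp]

/-- `cd_ℓ(K) ≤ d` iff `H^q(Spec E, μ_ℓ) = 0` for all finite separable `E/K` and `q > d`. -/
theorem cohDimLEAt_iff_mu (K : Type u) [Field K] (ℓ d : ℕ) [hℓ : Fact ℓ.Prime] (h0 : (ℓ : K) ≠ 0) :
    Dix.CohDimLEAt (Spec (CommRingCat.of K)) ℓ d ↔ ∀ (q : ℕ), d < q →
      ∀ (E : Type u) [Field E] [Algebra K E] [FiniteDimensional K E] [Algebra.IsSeparable K E],
        Subsingleton (EtCoh.H (Spec (CommRingCat.of E)) (EtCoh.mu (Spec (CommRingCat.of E)) ℓ) q) := by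
  constructor
  · intro h q hq E _ _ _ _
    refine cohDimLEAt_of_isAlgebraic K E ℓ d hℓ.out.pos h _ ?_ q hq
    apply isPrimaryTorsion_of_killedBy 1
    rw [pow_one]
    exact killedBy_mu _ ℓ
  · intro h F hF q hq
    exact subsingleton_H_of_mu K ℓ h0 q (h q hq) F hF

end Groth.Agent.Etbc.H202.FieldDev
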