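import Groth.Agent.Etbc.H202.Core2
import Groth.Agent.Etbc.H202.FieldDev
import Groth.Agent.Etbc.H207.Uniformizer
import Groth.Agent.Etbc.H205.HensExt
import Groth.Agent.Etbc.H205.AlgExt
import Groth.Agent.Etrest.IsoInv

/-!
# `H^{m+2}(K, μ_ℓ) = 0` implies `H^{m+1}(k, ℤ/ℓ) = 0`

`R` henselian discrete valuation ring with fraction field `K` and residue field `k`.
-/

set_option autoImplicit false

universe u

open CategoryTheory CategoryTheory.Limits CategoryTheory.Abelian AlgebraicGeometry Opposite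
  IsLocalRing

namespace Groth.Agent.Etbc.H202.Core3

open Groth.Agent.CurvesA Groth.Agent.CurvesA.PushAcyclic Groth.Agent.EtpbcA.CdEtLeray

/-- Cohomology of a constant sheaf only depends on the field up to isomorphism. -/
theorem subsingleton_const_of_ringEquiv {K L : Type u} [CommRing K] [CommRing L] (e : K ≃+* L)
    (M : Type) [AddCommGroup M] (n : ℕ)
    (h : Subsingleton (EtCoh.H (Spec (CommRingCat.of K)) (EtCoh.const _ M) n)) :
    Subsingleton (EtCoh.H (Spec (CommRingCat.of L)) (EtCoh.const _ M) n) := by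
  let f : Spec (CommRingCat.of L) ⟶ Spec (CommRingCat.of K) :=
    Spec.map (CommRingCat.ofHom (e : K →+* L))
  have he : IsIso (CommRingCat.ofHom (e : K →+* L)) :=
    inferInstanceAs (IsIso (RingEquiv.toCommRingCatIso e).hom)
  have hf : IsIso f := inferInstanceAs (IsIso (Spec.map _))
  have h1 : Subsingleton (EtCoh.H (Spec (CommRingCat.of L))
      ((EtCoh.pull f).obj (EtCoh.const _ M)) n) :=
    (Groth.Agent.Etrest.IsoInv.HIso f (EtCoh.const _ M) n).symm.toEquiv.subsingleton
  exact H_subsingleton_of_iso (EtCore.pullConst f M) n h1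

section ff

variable (R : Type u) [CommRing R] [IsDomain R] [IsDiscreteValuationRing R] [HenselianLocalRing R]

theorem core_ff (ℓ : ℕ) (hℓ : 0 < ℓ)
    (hK : (ℓ : ((Spec (CommRingCat.of R)).functionField : Type u)) ≠ 0)
    (hR : ∀ q, 2 ≤ q → IsZero ((EtCoh.Rpush (OrdMap.j (Spec (CommRingCat.of R))) q).obj
      (EtCoh.mu _ ℓ)))
    (m : ℕ) (hm : Subsingleton (EtCoh.H
      (Spec (CommRingCat.of ((Spec (CommRingCat.of R)).functionField : Type u))) (EtCoh.mu _ ℓ) (m + 2))) :
    Subsingleton (EtCoh.H (Spec (CommRingCat.of (ResidueField R))) (EtCoh.const _ (ZMod ℓ)) (m + 1)) := by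
  obtain ⟨ϖ, hϖ⟩ := H207.Uniformizer.exists_uniformizer_hom R (H207.Uniformizer.isDed R)
  have hℓΓ : IsUnit (ℓ : Γ(Spec ((Spec (CommRingCat.of R)).presheaf.stalk
      (genericPoint (Spec (CommRingCat.of R)))), ⊤)) := by
    have h1 : IsUnit (ℓ : ((Spec (CommRingCat.of R)).functionField : Type u)) := hK.isUnit
    have h2 := h1.map (Scheme.ΓSpecIso ((Spec (CommRingCat.of R)).presheaf.stalk
      (genericPoint (Spec (CommRingCat.of R))))).inv.hom
    rwa [map_natCast] at h2
  let i : Spec (CommRingCat.of (ResidueField R)) ⟶ Spec (CommRingCat.of R) :=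
    Spec.map (CommRingCat.ofHom (IsLocalRing.residue R))
  have hi := Groth.Agent.S3073.result R (EtCoh.const _ (ZMod ℓ)) (m + 1)
  have h1 := Core2.subsingleton_general (OrdMap.j (Spec (CommRingCat.of R))) i ℓ hℓ hℓΓ
    (Core2.ext_one_Gm ((Spec (CommRingCat.of R)).functionField : Type u))
    (OrdMap.ordMap (Spec (CommRingCat.of R)) (H207.Uniformizer.isDed R)) ϖ hϖ hR m hm hi.1
  have h2 : Subsingleton (EtCoh.H (Spec (CommRingCat.of (ResidueField R)))
      ((EtCoh.pull i).obj (EtCoh.const _ (ZMod ℓ))) (m + 1)) := by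
    refine ⟨fun a b => ?_⟩
    obtain ⟨a, rfl⟩ := hi.2 a
    obtain ⟨b, rfl⟩ := hi.2 b
    rw [Subsingleton.elim a b]
  exact H_subsingleton_of_iso (EtCore.pullConst i (ZMod ℓ)) (m + 1) h2

end ff

/-- The function field of `Spec R` as an algebra over `R`. -/
noncomputable instance algebraFF (R : Type u) [CommRing R] [IsDomain R] :
    Algebra R ((Spec (CommRingCat.of R)).functionField : Type u) :=
  AlgebraicGeometry.instAlgebraCarrierFunctionFieldSpec (CommRingCat.of R)

instance isFractionRingFF (R : Type u) [CommRing R] [IsDomain R] :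
    IsFractionRing R ((Spec (CommRingCat.of R)).functionField : Type u) :=
  functionField_isFractionRing_of_affine (CommRingCat.of R)

/-- `Spec` of the algebra map to the function field is the inclusion of the generic point. -/
theorem j_eq (R : Type u) [CommRing R] [IsDomain R] :
    Spec.map (CommRingCat.ofHom (algebraMap R ((Spec (CommRingCat.of R)).functionField : Type u))) =
      OrdMap.j (Spec (CommRingCat.of R)) :=
  (Spec.fromSpecStalk_eq' (CommRingCat.of R) _).symm

/-- Vanishing of the higher direct images of `ℓ`-torsion sheaves along `Spec K → Spec R`. -/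
def RVan (ℓ : ℕ) (R : Type u) [CommRing R] (K : Type u) [Field K] [Algebra R K] : Prop :=
  ∀ (F : EtCoh.Ab (Spec (CommRingCat.of K))), EtCoh.KilledBy ℓ F → ∀ q : ℕ, 2 ≤ q →
    IsZero ((EtCoh.Rpush (Spec.map (CommRingCat.ofHom (algebraMap R K))) q).obj F)

/-- The lower bound for a single field. -/
theorem lower (R : Type u) [CommRing R] [IsDomain R] [IsDiscreteValuationRing R] [HenselianLocalRing R]
    (K : Type u) [Field K] [Algebra R K] [IsFractionRing R K] (ℓ : ℕ) [hℓ : Fact ℓ.Prime]
    (hK : (ℓ : K) ≠ 0) (hR : RVan ℓ R ((Spec (CommRingCat.of R)).functionField : Type u)) (d : ℕ)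
    (h : Dix.CohDimLEAt (Spec (CommRingCat.of K)) ℓ (d + 1)) (q : ℕ) (hq : d < q) :
    Subsingleton (EtCoh.H (Spec (CommRingCat.of (ResidueField R))) (EtCoh.const _ (ZMod ℓ)) q) := by
  obtain ⟨m, rfl⟩ : ∃ m, q = m + 1 := ⟨q - 1, by omega⟩
  let e : K ≃+* ((Spec (CommRingCat.of R)).functionField : Type u) :=
    (IsLocalization.algEquiv (nonZeroDivisors R) K
      ((Spec (CommRingCat.of R)).functionField : Type u)).toRingEquiv
  have hK' : (ℓ : ((Spec (CommRingCat.of R)).functionField : Type u)) ≠ 0 := by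
    intro h0
    apply hK
    apply e.injective
    rw [map_natCast, h0, map_zero]
  have h' := H205.AlgExt.cohDimLEAt_of_ringEquiv e hℓ.out.ne_zero (d + 1) h
  refine core_ff R ℓ hℓ.out.pos hK' (fun q hq => ?_) m ?_
  · rw [← j_eq]
    exact hR (EtCoh.mu _ ℓ) (FieldDev.killedBy_mu _ ℓ) q hq
  · refine h' _ ?_ (m + 2) (by omega)
    apply FieldDev.isPrimaryTorsion_of_killedBy 1
    rw [pow_one]
    exact FieldDev.killedBy_mu _ ℓ

theorem killedBy_obj {X Y : Scheme.{u}} (G : EtCoh.Ab X ⥤ EtCoh.Ab Y) [G.Additive] {ℓ : ℕ}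
    {F : EtCoh.Ab X} (hF : EtCoh.KilledBy ℓ F) : EtCoh.KilledBy ℓ (G.obj F) := by
  rw [EtKilled.killedBy_iff] at hF ⊢
  have := congrArg G.map hF
  rw [Functor.map_nsmul, CategoryTheory.Functor.map_id, Functor.map_zero] at this
  exact this

/-- The upper bound for a single field. -/
theorem upper (R : Type u) [CommRing R] [IsDomain R] [IsDiscreteValuationRing R] [HenselianLocalRing R]
    (K : Type u) [Field K] [Algebra R K] (ℓ : ℕ)
    (hR : RVan ℓ R K) (d : ℕ) (h : Dix.CohDimLEAt (Spec (CommRingCat.of (ResidueField R))) ℓ d)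
    (F : EtCoh.Ab (Spec (CommRingCat.of K))) (hF : EtCoh.KilledBy ℓ F) (q : ℕ) (hq : d + 1 < q) :
    Subsingleton (EtCoh.H (Spec (CommRingCat.of K)) F q) := by
  let j : Spec (CommRingCat.of K) ⟶ Spec (CommRingCat.of R) :=
    Spec.map (CommRingCat.ofHom (algebraMap R K))
  let i : Spec (CommRingCat.of (ResidueField R)) ⟶ Spec (CommRingCat.of R) :=
    Spec.map (CommRingCat.ofHom (IsLocalRing.residue R))
  have key : ∀ (G : EtCoh.Ab (Spec (CommRingCat.of R))) (_ : EtCoh.KilledBy ℓ G) (p : ℕ) (_ : d < p),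
      Subsingleton (EtCoh.H (Spec (CommRingCat.of R)) G p) := by
    intro G hG p hp
    have hi := Groth.Agent.S3073.result R G p
    have h1 : Subsingleton (EtCoh.H (Spec (CommRingCat.of (ResidueField R)))
        ((EtCoh.pull i).obj G) p) := by
      refine h _ ?_ p hp
      apply FieldDev.isPrimaryTorsion_of_killedBy 1
      rw [pow_one]
      exact killedBy_obj _ hG
    exact hi.1.subsingleton
  have hRk : ∀ q : ℕ, EtCoh.KilledBy ℓ ((EtCoh.Rpush j q).obj F) := by
    intro q
    have : (EtCoh.Rpush j q).Additive := inferInstanceAs ((EtCoh.push j).rightDerived q).Additive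
    exact killedBy_obj _ hF
  refine H_subsingleton_of_leray j F q ?_ ?_
  · exact key _ (killedBy_obj _ hF) q (by omega)
  · intro p q' hpq
    rcases Nat.eq_zero_or_pos q' with rfl | hq'
    · exact key _ (hRk 1) p (by omega)
    · exact H_subsingleton_of_isZero (hR F hF (q' + 1) (by omega)) p

end Groth.Agent.Etbc.H202.Core3
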