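import Mathlib.Algebra.Homology.DerivedCategory.Ext.ExactSequences
import Mathlib.Algebra.Homology.DerivedCategory.Ext.EnoughInjectives
import Mathlib.CategoryTheory.Abelian.Injective.Basic
import Mathlib.CategoryTheory.Abelian.Exact
import Mathlib.CategoryTheory.Abelian.Refinements

/-!
# Two lemmas in abelian categories

* `comp_eq_zero`: a class in `Ext^n(P, S.X₃)` dies in `Ext^n(P, T)`, `I → Q → T → 0` exact with `I` injective,
  if `S → (I → Q → T)` and `Ext^n(P, Q) = 0`.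
* `exact_cok`, `epi_cok`: comparison of the cokernels of `p : E → E` and `q : I → Q`.
-/

set_option autoImplicit false

universe w v u

open CategoryTheory CategoryTheory.Limits CategoryTheory.Abelian

namespace Groth.Agent.Etbc.H202.Split

variable {B : Type u} [Category.{v} B] [Abelian B]

section ext

variable [HasExt.{w} B]

theorem comp_eq_zero {P : B} {S : ShortComplex B} (hS : S.ShortExact)
    {I Q T : B} [Injective I] (b : I ⟶ Q) (t : Q ⟶ T) (w : b ≫ t = 0) [Epi t]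
    (a₀ : S.X₁ ⟶ I) (a₁ : S.X₂ ⟶ Q) (comm : a₀ ≫ b = S.f ≫ a₁) (τ : S.X₃ ⟶ T)
    (hτ : S.g ≫ τ = a₁ ≫ t)
    (n : ℕ) (hQ : ∀ y : Ext P Q n, y = 0) (z : Ext P S.X₃ n) :
    z.comp (Ext.mk₀ τ) (add_zero n) = 0 := by
  let S' : ShortComplex B := ShortComplex.mk (kernel.ι t) t (kernel.condition t)
  have hS' : S'.ShortExact :=
    { exact := ShortComplex.exact_kernel t
      mono_f := inferInstanceAs (Mono (kernel.ι t))
      epi_g := inferInstanceAs (Epi t) }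
  let φ : S ⟶ S' :=
    { τ₁ := a₀ ≫ kernel.lift t b w
      τ₂ := a₁
      τ₃ := τ
      comm₁₂ := by
        change (a₀ ≫ kernel.lift t b w) ≫ kernel.ι t = S.f ≫ a₁
        rw [Category.assoc, kernel.lift_ι, comm]
      comm₂₃ := hτ.symm }
  have h1 := ShortComplex.ShortExact.extClass_naturality hS hS' φ
  have h2 : (z.comp (Ext.mk₀ τ) (add_zero n)).comp hS'.extClass rfl = 0 := by
    rw [Ext.comp_assoc_of_second_deg_zero, ← h1]
    have h3 : (Ext.mk₀ φ.τ₁ : Ext S.X₁ S'.X₁ 0) =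
        (Ext.mk₀ a₀).comp (Ext.mk₀ (kernel.lift t b w)) (add_zero 0) := by
      rw [Ext.mk₀_comp_mk₀]
    have h4 : (z.comp hS.extClass rfl).comp (Ext.mk₀ a₀) (add_zero (n + 1)) = 0 :=
      Ext.eq_zero_of_injective _
    rw [h3]
    rw [← Ext.comp_assoc_of_third_deg_zero, ← Ext.comp_assoc_of_third_deg_zero, h4, Ext.zero_comp]
  obtain ⟨y, hy⟩ := Ext.covariant_sequence_exact₃ P hS' (z.comp (Ext.mk₀ τ) (add_zero n))
    (n₁ := n + 1) rfl h2
  rw [← hy]
  change y.comp (Ext.mk₀ t) (add_zero n) = 0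
  rw [hQ y, Ext.zero_comp]

end ext

section cok

variable {E I Q Q₂ T : B} {p : E ⟶ E} {e : E ⟶ I} {q : I ⟶ Q} {ψ : E ⟶ Q} {r : Q ⟶ Q₂} {t : Q ⟶ T}

theorem exact_cok (h1 : p ≫ ψ = e ≫ q) (hψr : ψ ≫ r = 0) [Mono ψ] (heqr : e ≫ q ≫ r = 0)
    (ex2 : (ShortComplex.mk e (q ≫ r) heqr).Exact) (hqt : q ≫ t = 0)
    (ex3 : (ShortComplex.mk q t hqt).Exact) :
    ∃ w : p ≫ ψ ≫ t = 0, (ShortComplex.mk p (ψ ≫ t) w).Exact := by
  have w : p ≫ ψ ≫ t = 0 := by
    rw [← Category.assoc, h1, Category.assoc, hqt, comp_zero]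
  refine ⟨w, ?_⟩
  rw [ShortComplex.exact_iff_exact_up_to_refinements] at ex2 ex3 ⊢
  intro A x hx
  obtain ⟨A', π, _, y, hy⟩ := ex3 (x ≫ ψ) (by simpa using hx)
  dsimp only at y hy
  obtain ⟨A'', π', _, x', hx'⟩ := ex2 y (by
    change y ≫ q ≫ r = 0
    rw [← Category.assoc, ← hy, Category.assoc, Category.assoc, hψr, comp_zero, comp_zero])
  dsimp only at x' hx'
  refine ⟨A'', π' ≫ π, inferInstance, x', ?_⟩
  change (π' ≫ π) ≫ x = x' ≫ p
  rw [← cancel_mono ψ, Category.assoc, Category.assoc, hy, ← Category.assoc, hx', Category.assoc,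
    Category.assoc, h1]

theorem epi_cok (hψr : ψ ≫ r = 0) (ex1 : (ShortComplex.mk ψ r hψr).Exact)
    [Epi (q ≫ r)] (hqt : q ≫ t = 0) [Epi t] : Epi (ψ ≫ t) := by
  rw [epi_iff_surjective_up_to_refinements]
  rw [ShortComplex.exact_iff_exact_up_to_refinements] at ex1
  intro A y
  obtain ⟨A₁, π₁, _, y₁, hy₁⟩ := surjective_up_to_refinements_of_epi t y
  obtain ⟨A₂, π₂, _, y₂, hy₂⟩ := surjective_up_to_refinements_of_epi (q ≫ r) (y₁ ≫ r)
  obtain ⟨A₃, π₃, _, x, hx⟩ := ex1 (π₂ ≫ y₁ - y₂ ≫ q) (by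
    change (π₂ ≫ y₁ - y₂ ≫ q) ≫ r = 0
    rw [Preadditive.sub_comp, Category.assoc, Category.assoc, hy₂, sub_self])
  dsimp only at x hx
  refine ⟨A₃, π₃ ≫ π₂ ≫ π₁, inferInstance, x, ?_⟩
  have h := congrArg (fun f => f ≫ t) hx
  rw [Category.assoc, Category.assoc, Preadditive.sub_comp, Category.assoc, Category.assoc, hqt,
    comp_zero, sub_zero] at h
  rw [← h, Category.assoc, Category.assoc, hy₁]

end cok

end Groth.Agent.Etbc.H202.Split
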